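import Mathlib

/-!
Relations between the classes in the spherical triangle group `(2, 3, 3)` and in the Euclidean
triangle groups `(2, 3, 6)` and `(3, 3, 3)`.
-/

set_option autoImplicit false

namespace Cfsg.Agent.ThreeTI

variable {G : Type*} [Group G]

/-- If two elements of order 3 have an involution as product, the second is conjugate to the
inverse of the first. -/
theorem isConj_of_prod_invol {a b : G} (ha : a ^ 3 = 1) (hb : b ^ 3 = 1) (hab : (a * b) ^ 2 = 1) :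
    IsConj a⁻¹ b := by
  have ha' : a⁻¹ = a * a := inv_eq_of_mul_eq_one_right (by rw [← ha, pow_three])
  have hb' : b⁻¹ = b * b := inv_eq_of_mul_eq_one_right (by rw [← hb, pow_three])
  have h1 : b * a * b = a⁻¹ := by
    rw [eq_inv_iff_mul_eq_one, show b * a * b * a = a⁻¹ * ((a * b) ^ 2) * a by rw [pow_two]; group,
      hab]
    group
  have h2 : a * b * a = b⁻¹ := by
    rw [eq_inv_iff_mul_eq_one, show a * b * a * b = (a * b) ^ 2 by rw [pow_two]; group, hab]
  refine isConj_iff.2 ⟨a⁻¹ * b * a⁻¹, ?_⟩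
  rw [mul_inv_eq_iff_eq_mul]
  symm
  calc b * (a⁻¹ * b * a⁻¹) = b * a * (a * b * a) * a := by rw [ha']; group
    _ = (b * a * b) * b * a := by rw [h2, hb']; group
    _ = a⁻¹ * b * a⁻¹ * a⁻¹ := by
        have e : a⁻¹ * a⁻¹ = a := by rw [← mul_inv_rev, ← ha', inv_inv]
        rw [h1, mul_assoc (a⁻¹ * b), e]

/-- The translation part of the triangle group `(2, 3, 6)`. -/
theorem translation {a x : G} (h6 : x ^ 6 = 1) (hs : (a⁻¹ * x) ^ 2 = 1) (ha : a ^ 3 = 1) :
    Commute (a * x ^ 2) (x ^ 2 * (a * x ^ 2) * (x ^ 2)⁻¹) ∧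
      (a * x ^ 2) * (x ^ 2 * (a * x ^ 2) * (x ^ 2)⁻¹) *
        ((x ^ 2)⁻¹ * (a * x ^ 2) * x ^ 2) = 1 := by
  have ha' : a⁻¹ = a * a := inv_eq_of_mul_eq_one_right (by rw [← ha, pow_three])
  have hx4 : x ^ 2 * x ^ 2 = (x ^ 2)⁻¹ := by
    rw [eq_inv_iff_mul_eq_one, ← pow_add, ← pow_add, h6]
  have hx : x * a⁻¹ * x = a := by
    have := hs
    rw [pow_two, show a⁻¹ * x * (a⁻¹ * x) = a⁻¹ * (x * a⁻¹ * x) by group,
      inv_mul_eq_one] at this
    exact this.symm
  have hx2 : a * x⁻¹ = x * a⁻¹ := by rw [mul_inv_eq_iff_eq_mul, hx]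
  have hx3 : x⁻¹ * a = a⁻¹ * x := by rw [inv_mul_eq_iff_eq_mul, ← mul_assoc, hx]
  set k := a * x ^ 2 with hk
  have e1 : x ^ 2 * k * (x ^ 2)⁻¹ = x ^ 2 * a := by rw [hk]; group
  have e2 : k * (x ^ 2 * a) = x * a * x := by
    calc k * (x ^ 2 * a) = a * (x ^ 2 * x ^ 2) * a := by rw [hk]; group
      _ = (a * x⁻¹) * (x⁻¹ * a) := by rw [hx4]; group
      _ = x * (a⁻¹ * a⁻¹) * x := by rw [hx2, hx3]; group
      _ = x * a * x := by
          have e : a⁻¹ * a⁻¹ = a := by rw [← mul_inv_rev, ← ha', inv_inv]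
          rw [e]
  have e3 : x ^ 2 * a * k = x * a * x := by
    calc x ^ 2 * a * k = x ^ 2 * (a * a) * x ^ 2 := by rw [hk]; group
      _ = x * (x * a⁻¹ * x) * x := by rw [← ha', pow_two]; group
      _ = x * a * x := by rw [hx]
  refine ⟨?_, ?_⟩
  · rw [e1]; exact e2.trans e3.symm
  · rw [e1, e2]
    calc x * a * x * ((x ^ 2)⁻¹ * k * x ^ 2) = x * (a * x⁻¹) * a * (x ^ 2 * x ^ 2) := by
          rw [hk]; group
      _ = x * (x * a⁻¹) * a * (x ^ 2)⁻¹ := by rw [hx2, hx4]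
      _ = 1 := by group

/-- An abelian "translation" orbit `k, k', k''` of an element `w` with product one: either `k w` is
conjugate to `w`, or `w` and `k` commute with a common element of order 3. -/
theorem isConj_or_fixed [Finite G] {k w : G} (hw : w ^ 3 = 1)
    (c13 : Commute k (w * k * w⁻¹))
    (hprod : k * (w * k * w⁻¹) * (w * (w * k * w⁻¹) * w⁻¹) = 1) :
    IsConj w (k * w) ∨ ∃ q : G, q ≠ 1 ∧ q ^ 3 = 1 ∧ Commute q w ∧ Commute q k := by
  set σ : G ≃* G := MulAut.conj w with hσ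
  have hσa : ∀ g, σ g = w * g * w⁻¹ := fun g => rfl
  simp only [← hσa] at c13 hprod
  have hσ3 : ∀ g, σ (σ (σ g)) = g := fun g => by
    rw [hσa, hσa, hσa, show w * (w * (w * g * w⁻¹) * w⁻¹) * w⁻¹ = w ^ 3 * g * (w ^ 3)⁻¹ by
      rw [pow_three]; group, hw]
    group
  have c23 : Commute (σ k) (σ (σ k)) := c13.map σ.toMonoidHom
  have c12 : Commute k (σ (σ k)) := by
    have := c23.map σ.toMonoidHom
    simp only [MulEquiv.coe_toMonoidHom, hσ3] at this
    exact this.symm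
  have e1 : σ (σ k) = (σ k)⁻¹ * k⁻¹ := by
    rw [← mul_inv_rev, eq_inv_iff_mul_eq_one]
    exact mul_eq_one_symm hprod
  by_cases h3 : 3 ∣ orderOf k
  · right
    obtain ⟨m, hk1, hk3⟩ : ∃ m : ℕ, k ^ m ≠ 1 ∧ (k ^ m) ^ 3 = 1 := by
      obtain ⟨c, hc⟩ := h3
      refine ⟨c, fun h => ?_, by rw [← pow_mul, mul_comm, ← hc, pow_orderOf_eq_one]⟩
      have hpos := orderOf_pos k
      have := Nat.le_of_dvd (by omega) (orderOf_dvd_of_pow_eq_one h)
      omega
    have hcw : ∀ q, σ q = q → Commute q w := fun q hq => by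
      rw [hσa, mul_inv_eq_iff_eq_mul] at hq
      exact hq.symm
    by_cases hfix : σ (k ^ m) = k ^ m
    · exact ⟨k ^ m, hk1, hk3, hcw _ hfix, (Commute.refl k).pow_left m⟩
    · set q := k ^ m * (σ (k ^ m))⁻¹ with hq
      have hqfix : σ q = q := by
        have p1 : (σ k) ^ m * (σ k) ^ m * (σ k) ^ m = 1 := by
          rw [← map_pow, ← map_mul, ← map_mul, ← pow_three', hk3, map_one]
        have p2 : k ^ m * (σ (σ k)) ^ m * (σ k) ^ m = 1 := by
          rw [← c12.mul_pow, ← (c13.mul_left c23.symm).mul_pow]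
          have : k * σ (σ k) * σ k = 1 := by rw [mul_assoc, ← c23.eq, ← mul_assoc, hprod]
          rw [this, one_pow]
        have e : k ^ m * (σ (σ k)) ^ m = (σ k) ^ m * (σ k) ^ m :=
          mul_right_cancel (p2.trans p1.symm)
        rw [hq, map_mul, map_inv, map_pow, map_pow, mul_inv_eq_iff_eq_mul,
          mul_assoc, ((c23.pow_pow m m).inv_left).eq, ← mul_assoc, e, mul_inv_cancel_right]
      refine ⟨q, fun h => hfix ?_, ?_, hcw _ hqfix, ?_⟩
      · rw [hq, mul_inv_eq_one] at h; exact h.symm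
      · rw [hq, map_pow, ((c13.pow_pow m m).inv_right).mul_pow, inv_pow, hk3, ← map_pow,
          ← map_pow, hk3, map_one, inv_one, one_mul]
      · rw [hq, map_pow]
        exact ((Commute.refl k).pow_left m).mul_left ((c13.symm.pow_left m).inv_left)
  · left
    obtain ⟨n, hn⟩ := exists_pow_eq_self_of_coprime
      ((Nat.Prime.coprime_iff_not_dvd Nat.prime_three).2 h3)
    refine isConj_iff.2 ⟨(k * (σ (σ k))⁻¹) ^ n, ?_⟩
    set v := (k * (σ (σ k))⁻¹) ^ n with hv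
    have e : v * (σ v)⁻¹ = k := by
      rw [hv, map_pow, map_mul, map_inv, hσ3, ← inv_pow]
      have hc : Commute (k * (σ (σ k))⁻¹) (σ k * k⁻¹) :=
        (c13.mul_right (Commute.refl k).inv_right).mul_left
          ((c23.symm.mul_right c12.symm.inv_right).inv_left)
      rw [← (hc.inv_right).mul_pow, mul_inv_rev, inv_inv, e1, mul_inv_rev, inv_inv, inv_inv]
      have e2 : k * (k * σ k) * (k * (σ k)⁻¹) = k ^ 3 := by
        rw [show k * (k * σ k) * (k * (σ k)⁻¹) = k * k * (σ k * k) * (σ k)⁻¹ by group, ← c13.eq,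
          pow_three]
        group
      rw [e2, ← pow_mul, mul_comm 3 n, mul_comm n 3, pow_mul]
      exact hn
    nth_rewrite 1 [← e]
    rw [hσa]
    group

/-- In a quotient of the triangle group `(2, 3, 6)` the rotation of order 3 is conjugate to the
inverse square of the rotation of order 6, unless both commute with a common element of order 3. -/
theorem isConj_or_commute [Finite G] {a x : G} (ha : a ^ 3 = 1) (h6 : x ^ 6 = 1)
    (hs : (a⁻¹ * x) ^ 2 = 1) :
    IsConj a (x ^ 2)⁻¹ ∨ ∃ q : G, q ≠ 1 ∧ q ^ 3 = 1 ∧ Commute q (x ^ 2) ∧ Commute q a := by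
  obtain ⟨hcomm, hprod⟩ := translation h6 hs ha
  have hx3 : (x ^ 2) ^ 3 = 1 := by rw [← pow_mul, h6]
  have hw : (x ^ 2)⁻¹ * (x ^ 2)⁻¹ = x ^ 2 := by
    rw [← mul_inv_rev, inv_eq_iff_mul_eq_one, ← pow_three', hx3]
  set k := a * x ^ 2 with hk
  set w := (x ^ 2)⁻¹ with hw'
  have e2 : w * (w * k * w⁻¹) * w⁻¹ = x ^ 2 * k * (x ^ 2)⁻¹ := by
    rw [show w * (w * k * w⁻¹) * w⁻¹ = (w * w) * k * (w * w)⁻¹ by group, hw]
  have hc : Commute k (w * k * w⁻¹) := by
    have h1 := hcomm.map (MulAut.conj w).toMonoidHom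
    simp only [MulEquiv.coe_toMonoidHom, MulAut.conj_apply] at h1
    rw [show w * (x ^ 2 * k * (x ^ 2)⁻¹) * w⁻¹ = k by rw [hw']; group] at h1
    exact h1.symm
  have hp : k * (w * k * w⁻¹) * (w * (w * k * w⁻¹) * w⁻¹) = 1 := by
    rw [e2, hc.eq, mul_assoc]
    refine mul_eq_one_symm ?_
    rw [show w * k * w⁻¹ = (x ^ 2)⁻¹ * k * x ^ 2 by rw [hw', inv_inv]]
    exact hprod
  rcases isConj_or_fixed (by rw [hw', inv_pow, hx3, inv_one]) hc hp with h | ⟨q, q1, q3, qw, qk⟩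
  · left
    have : k * w = a := by rw [hk, hw', mul_inv_cancel_right]
    rw [this] at h
    exact h.symm
  · refine Or.inr ⟨q, q1, q3, by simpa [hw'] using qw.inv_right, ?_⟩
    have : a = k * w := by rw [hk, hw', mul_inv_cancel_right]
    rw [this]
    exact qk.mul_right qw

/-- In a quotient of the triangle group `(3, 3, 3)` two generating rotations are conjugate, unless
they commute with a common element of order 3. -/
theorem isConj_or_commute_three [Finite G] {a b : G} (ha : a ^ 3 = 1) (hb : b ^ 3 = 1)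
    (hab : (a * b) ^ 3 = 1) :
    IsConj a b ∨ ∃ q : G, q ≠ 1 ∧ q ^ 3 = 1 ∧ Commute q a ∧ Commute q b := by
  have ha' : a * (a * a) = 1 := by rw [← pow_three, ha]
  have hai : a⁻¹ = a * a := inv_eq_of_mul_eq_one_right ha'
  set k := b * a⁻¹ with hk
  have hbk : k * a = b := by rw [hk, inv_mul_cancel_right]
  have h1 : k * (a * k * a⁻¹) * (a * (a * k * a⁻¹) * a⁻¹) = 1 := by
    rw [show k * (a * k * a⁻¹) * (a * (a * k * a⁻¹) * a⁻¹) = k * a * (k * a) * k * (a⁻¹ * a⁻¹)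
      by group, hbk, hk]
    rw [show b * b * (b * a⁻¹) * (a⁻¹ * a⁻¹) = b * (b * b) * (a⁻¹ * (a⁻¹ * a⁻¹)) by group,
      ← pow_three, hb, one_mul, ← pow_three, inv_pow, ha, inv_one]
  have h2 : a * k * a⁻¹ * k * (a * (a * k * a⁻¹) * a⁻¹) = 1 := by
    have e : a * b * (a * b) * (a * b) = 1 := by rw [← pow_three', hab]
    rw [show a * k * a⁻¹ * k * (a * (a * k * a⁻¹) * a⁻¹) =
      a * k * a⁻¹ * k * a * a * k * a⁻¹ * a⁻¹ by group, hk]
    rw [show a * (b * a⁻¹) * a⁻¹ * (b * a⁻¹) * a * a * (b * a⁻¹) * a⁻¹ * a⁻¹ =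
      a * b * (a⁻¹ * a⁻¹) * b * a * b * (a⁻¹ * a⁻¹) * a⁻¹ by group]
    rw [show a⁻¹ * a⁻¹ = a by rw [← mul_inv_rev, inv_eq_iff_mul_eq_one, mul_assoc]; exact ha']
    rw [show a * b * a * b * a * b * a * a⁻¹ = a * b * (a * b) * (a * b) by group, e]
  have hc : Commute k (a * k * a⁻¹) := mul_right_cancel (h1.trans h2.symm)
  rcases isConj_or_fixed ha hc h1 with h | ⟨q, q1, q3, qw, qk⟩
  · exact Or.inl (hbk ▸ h)
  · exact Or.inr ⟨q, q1, q3, qw, hbk ▸ qk.mul_right qw⟩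

end Cfsg.Agent.ThreeTI
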