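import Mathlib

/-!
A verified search for the multisets of columns, with entries `0` and `±1` and leading entry `1`,
having a prescribed Gram matrix.
-/

set_option autoImplicit false

namespace Cfsg.Agent.ThreeTI

/-- All vectors with entries `0, 1, -1`. -/
def allVecs : (n : ℕ) → List (Fin n → ℤ)
  | 0 => [Fin.elim0]
  | n + 1 => (allVecs n).flatMap fun f => [Fin.cons 0 f, Fin.cons 1 f, Fin.cons (-1) f]

theorem mem_allVecs : ∀ (n : ℕ) (f : Fin n → ℤ), (∀ i, f i = 0 ∨ f i = 1 ∨ f i = -1) →
    f ∈ allVecs n
  | 0, f, _ => by simp [allVecs, Subsingleton.elim f Fin.elim0]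
  | n + 1, f, h => by
    have ht := mem_allVecs n (Fin.tail f) fun i => h i.succ
    refine List.mem_flatMap.2 ⟨_, ht, ?_⟩
    rcases h 0 with e | e | e <;> rw [← Fin.cons_self_tail f, e] <;> simp

/-- The leading nonzero entry is `1`. -/
def normed {n : ℕ} (c : Fin n → ℤ) : Bool :=
  ((List.finRange n).filter fun i => c i != 0).head?.elim false fun i => c i == 1

/-- The normalised vectors. -/
def vecs (n : ℕ) : List (Fin n → ℤ) := (allVecs n).filter normed

/-- An ordering of vectors with earlier leading entries first. -/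
def key {n : ℕ} (c : Fin n → ℤ) : ℕ :=
  (List.finRange n).foldl
    (fun acc i => 3 * acc + (if c i = 1 then 2 else if c i = -1 then 1 else 0)) 0

/-- The ordering is compatible with leading entries. -/
def KeyOK (n : ℕ) : Prop :=
  ((vecs n).all fun x => (vecs n).all fun y => (List.finRange n).all fun k =>
    (((List.finRange n).any fun i => decide (i < k) && (x i != 0 || y i != 0)) ||
      (x k != 0) || (y k == 0) || decide (key x < key y))) = true

instance (n : ℕ) : Decidable (KeyOK n) := by unfold KeyOK; infer_instance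

/-- Subtract the contribution of one column. -/
def reduce {n : ℕ} (G : Fin n → Fin n → ℤ) (c : Fin n → ℤ) : Fin n → Fin n → ℤ :=
  fun i j => G i j - c i * c j

/-- A necessary condition on a Gram matrix. -/
def feasible {n : ℕ} (G : Fin n → Fin n → ℤ) : Bool :=
  (List.finRange n).all fun i => decide (0 ≤ G i i) &&
    (List.finRange n).all fun j => decide (G i j ≤ G i i) && decide (-(G i i) ≤ G i j)

/-- All column lists, in decreasing order, with Gram matrix `G`. -/
def search {n : ℕ} : ℕ → (Fin n → Fin n → ℤ) → ℕ → List (List (Fin n → ℤ))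
  | fuel, G, last =>
    match (List.finRange n).find? (fun i => G i i != 0) with
    | none => [[]]
    | some k =>
      match fuel with
      | 0 => []
      | fuel + 1 => ((vecs n).filter fun c =>
          (c k != 0) && decide (key c ≤ last) && feasible (reduce G c)).flatMap
          fun c => (search fuel (reduce G c) (key c)).map (c :: ·)

theorem search_sound {n : ℕ} (hK : KeyOK n) {I : Type*} [DecidableEq I] (κ : I → Fin n → ℤ) :
    ∀ (fuel : ℕ) (G : Fin n → Fin n → ℤ) (last : ℕ) (S : Finset I),
      (∀ x ∈ S, κ x ∈ vecs n) → (∀ i j, G i j = ∑ x ∈ S, κ x i * κ x j) →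
      (∀ x ∈ S, key (κ x) ≤ last) → S.card ≤ fuel →
      ∃ l ∈ search fuel G last, S.val.map κ = (l : Multiset (Fin n → ℤ)) := by
  have hb : ∀ c ∈ vecs n, ∀ i, c i = 0 ∨ c i = 1 ∨ c i = -1 := by
    intro c hc
    rw [vecs, List.mem_filter] at hc
    have : ∀ m (f : Fin m → ℤ), f ∈ allVecs m → ∀ i, f i = 0 ∨ f i = 1 ∨ f i = -1 := by
      intro m
      induction m with
      | zero => exact fun f _ i => i.elim0
      | succ m ih =>
        intro f hf i
        obtain ⟨g, hg, hfg⟩ := List.mem_flatMap.1 hf
        simp only [List.mem_cons, List.not_mem_nil, or_false] at hfg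
        rcases hfg with rfl | rfl | rfl <;>
          exact Fin.cases (by simp) (fun j => by simpa using ih g hg j) i
    exact this n c hc.1
  have hne : ∀ c ∈ vecs n, ∃ i, c i ≠ 0 := by
    intro c hc
    rw [vecs, List.mem_filter] at hc
    by_contra h
    push Not at h
    simp [normed, h] at hc
  intro fuel
  induction fuel with
  | zero =>
    intro G last S hS hG _ hc
    obtain rfl : S = ∅ := Finset.card_eq_zero.1 (Nat.le_zero.1 hc)
    refine ⟨[], ?_, rfl⟩
    unfold search
    have : (List.finRange n).find? (fun i => G i i != 0) = none := by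
      simp [List.find?_eq_none, hG]
    rw [this]; simp
  | succ fuel ih =>
    intro G last S hS hG hlast hc
    rcases S.eq_empty_or_nonempty with rfl | hne'
    · refine ⟨[], ?_, rfl⟩
      unfold search
      have : (List.finRange n).find? (fun i => G i i != 0) = none := by
        simp [List.find?_eq_none, hG]
      rw [this]; simp
    obtain ⟨x, hx, hmax⟩ := Finset.exists_max_image S (fun x => key (κ x)) hne'
    have hdiag : ∀ i, (∃ y ∈ S, κ y i ≠ 0) → G i i ≠ 0 := by
      rintro i ⟨y, hy, hyi⟩ h0
      rw [hG, Finset.sum_eq_zero_iff_of_nonneg fun z _ => mul_self_nonneg _] at h0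
      exact hyi (mul_self_eq_zero.1 (h0 y hy))
    obtain ⟨k, hk⟩ : ∃ k, (List.finRange n).find? (fun i => G i i != 0) = some k := by
      rw [← Option.isSome_iff_exists, List.find?_isSome]
      obtain ⟨i, hi⟩ := hne _ (hS x hx)
      exact ⟨i, List.mem_finRange i, by simpa using hdiag i ⟨x, hx, hi⟩⟩
    have hk0 : G k k ≠ 0 := by simpa using List.find?_some hk
    have hlt : ∀ i < k, ∀ y ∈ S, κ y i = 0 := by
      intro i hi y hy
      by_contra h
      obtain ⟨hp, as, bs, hab, has⟩ := List.find?_eq_some_iff_append.1 hk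
      have hmem : i ∈ as := by
        have hs : (as ++ k :: bs).Pairwise (· < ·) := hab ▸ List.pairwise_lt_finRange n
        have := hab ▸ List.mem_finRange i
        rcases List.mem_append.1 this with h1 | h1
        · exact h1
        · rcases List.mem_cons.1 h1 with rfl | h2
          · exact absurd hi (lt_irrefl _)
          · have := (List.pairwise_cons.1 (List.pairwise_append.1 hs).2.1).1 i h2
            exact absurd hi (not_lt.2 this.le)
      simpa [hdiag i ⟨y, hy, h⟩] using has i hmem
    have hxk : κ x k ≠ 0 := by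
      intro h0
      obtain ⟨y, hy, hyk⟩ : ∃ y ∈ S, κ y k ≠ 0 := by
        by_contra h
        push Not at h
        exact hk0 (by rw [hG]; exact Finset.sum_eq_zero fun y hy => by rw [h y hy, zero_mul])
      have h1 := hK
      unfold KeyOK at h1
      simp only [List.all_eq_true] at h1
      have h2 := h1 _ (hS x hx) _ (hS y hy) k (List.mem_finRange k)
      simp only [Bool.or_eq_true, List.any_eq_true, Bool.and_eq_true, decide_eq_true_eq,
        bne_iff_ne, beq_iff_eq] at h2
      rcases h2 with ((⟨i, -, hi, h3⟩ | h3) | h3) | h3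
      · rcases h3 with h3 | h3
        exacts [h3 (hlt i hi x hx), h3 (hlt i hi y hy)]
      · exact h3 h0
      · exact hyk h3
      · exact absurd (hmax y hy) (not_le.2 h3)
    have hG' : ∀ i j, reduce G (κ x) i j = ∑ y ∈ S.erase x, κ y i * κ y j := fun i j => by
      rw [reduce, hG, ← Finset.add_sum_erase S _ hx]; ring
    have hfeas : feasible (reduce G (κ x)) = true := by
      simp only [feasible, List.all_eq_true, Bool.and_eq_true, decide_eq_true_eq, hG']
      intro i _
      refine ⟨Finset.sum_nonneg fun y _ => mul_self_nonneg _, fun j _ => ?_⟩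
      have e : ∀ y ∈ S.erase x, κ y i * κ y j ≤ κ y i * κ y i ∧
          -(κ y i * κ y i) ≤ κ y i * κ y j := fun y hy => by
        rcases hb _ (hS y (Finset.mem_of_mem_erase hy)) i with a | a | a <;>
          rcases hb _ (hS y (Finset.mem_of_mem_erase hy)) j with b | b | b <;> simp [a, b]
      refine ⟨Finset.sum_le_sum fun y hy => (e y hy).1, ?_⟩
      rw [← Finset.sum_neg_distrib]
      exact Finset.sum_le_sum fun y hy => (e y hy).2
    obtain ⟨l, hl, hml⟩ := ih (reduce G (κ x)) (key (κ x)) (S.erase x)
      (fun y hy => hS y (Finset.mem_of_mem_erase hy)) hG'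
      (fun y hy => hmax y (Finset.mem_of_mem_erase hy))
      (by rw [Finset.card_erase_of_mem hx]; omega)
    refine ⟨κ x :: l, ?_, ?_⟩
    · unfold search
      rw [hk]
      simp only [List.mem_flatMap, List.mem_filter, Bool.and_eq_true, decide_eq_true_eq,
        bne_iff_ne, List.mem_map]
      exact ⟨κ x, ⟨hS x hx, ⟨hxk, hlast x hx⟩, hfeas⟩, l, hl, rfl⟩
    · rw [← Multiset.cons_coe, ← hml, ← Multiset.map_cons, Finset.erase_val,
        Multiset.cons_erase hx]

/-- A multiset equality of images gives a list of elements. -/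
theorem exists_list {I J : Type*} (S : Finset I) (κ : I → J) (l : List J)
    (h : S.val.map κ = (l : Multiset J)) :
    ∃ m : List I, m.Nodup ∧ (∀ x, x ∈ m ↔ x ∈ S) ∧ m.map κ = l := by
  induction l generalizing S with
  | nil =>
    obtain rfl : S = ∅ := Finset.val_eq_zero.1 (Multiset.map_eq_zero.1 h)
    exact ⟨[], by simp⟩
  | cons a t ih =>
    classical
    obtain ⟨x, hx, hxa⟩ := Multiset.mem_map.1 (h ▸ List.mem_cons_self (a := a) (l := t) :
      a ∈ S.val.map κ)
    have h' : (S.erase x).val.map κ = (t : Multiset J) := by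
      rw [← Multiset.cons_coe, ← Multiset.cons_erase hx, Multiset.map_cons, hxa,
        Multiset.cons_inj_right] at h
      rwa [Finset.erase_val]
    obtain ⟨m, hm1, hm2, hm3⟩ := ih (S.erase x) h'
    refine ⟨x :: m, List.nodup_cons.2 ⟨fun hm => ?_, hm1⟩, fun y => ?_, by simp [hxa, hm3]⟩
    · exact (Finset.mem_erase.1 ((hm2 x).1 hm)).1 rfl
    · rw [List.mem_cons, hm2, Finset.mem_erase]
      exact ⟨fun h => h.elim (· ▸ hx) (·.2),
        fun hy => (eq_or_ne y x).imp id fun hne => ⟨hne, hy⟩⟩

end Cfsg.Agent.ThreeTI
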